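import Groth.Agent.KrullThick.Basic
import Groth.Agent.UfdExtend.Local
import Mathlib

/-!
Local rings of closed subschemes: length and associated points; ideals in discrete valuation rings.
-/

set_option autoImplicit false
set_option backward.isDefEq.respectTransparency false

universe u

open CategoryTheory AlgebraicGeometry IsLocalRing

namespace Groth.Agent.CycSub

theorem length_quotient_pow {R : Type u} [CommRing R] [IsDomain R] [IsDiscreteValuationRing R] (n : ℕ) :
    Module.length R (R ⧸ maximalIdeal R ^ n) = n := by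
  obtain ⟨ϖ, hϖ⟩ := IsDiscreteValuationRing.exists_irreducible R
  rw [hϖ.maximalIdeal_eq, Ideal.span_singleton_pow]
  show Ring.ord R (ϖ ^ n) = n
  rw [Ring.ord_pow (mem_nonZeroDivisors_of_ne_zero hϖ.ne_zero)]
  have h1 : Ring.ord R ϖ = 1 := by
    show Module.length R (R ⧸ Ideal.span {ϖ}) = 1
    rw [Module.length_eq_one_iff, isSimpleModule_iff_isCoatom, ← hϖ.maximalIdeal_eq]
    exact (maximalIdeal.isMaximal R).out
  rw [h1, nsmul_eq_mul, mul_one]

theorem eq_pow_of_length {R : Type u} [CommRing R] [IsDomain R] [IsDiscreteValuationRing R] (K : Ideal R) (n : ℕ)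
    (h : Module.length R (R ⧸ K) = n) : K = maximalIdeal R ^ n := by
  obtain ⟨ϖ, hϖ⟩ := IsDiscreteValuationRing.exists_irreducible R
  by_cases hK : K = ⊥
  · subst hK
    exfalso
    have h2 : Module.length R (R ⧸ maximalIdeal R ^ (n + 1)) ≤ Module.length R (R ⧸ (⊥ : Ideal R)) :=
      Module.length_le_of_surjective (Submodule.factor (bot_le : (⊥ : Ideal R) ≤ maximalIdeal R ^ (n + 1)))
        (Submodule.factor_surjective _)
    rw [length_quotient_pow, h] at h2
    have : n + 1 ≤ n := by exact_mod_cast h2
    omega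
  · obtain ⟨j, hj⟩ := IsDiscreteValuationRing.ideal_eq_span_pow_irreducible hK hϖ
    rw [← Ideal.span_singleton_pow, ← hϖ.maximalIdeal_eq] at hj
    subst hj
    rw [length_quotient_pow] at h
    exact congrArg _ (by exact_mod_cast h)

theorem isAssociatedPrime_max_iff {S : Type u} [CommRing S] [IsLocalRing S] [IsNoetherianRing S] :
    IsAssociatedPrime (maximalIdeal S) S ↔ ∃ b : S, b ≠ 0 ∧ ∀ r ∈ maximalIdeal S, r * b = 0 := by
  rw [isAssociatedPrime_iff]
  constructor
  · rintro ⟨hp, b, hb⟩
    refine ⟨b, fun h0 => hp.ne_top ?_, fun r hr => ?_⟩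
    · rw [hb, h0]
      exact eq_top_iff.2 fun r _ => Submodule.mem_colon_singleton.2 (by simp)
    · rw [hb, Submodule.mem_colon_singleton, Submodule.mem_bot] at hr
      exact hr
  · rintro ⟨b, hb, hann⟩
    refine ⟨(maximalIdeal.isMaximal S).isPrime, b, le_antisymm (fun r hr => ?_) ?_⟩
    · exact Submodule.mem_colon_singleton.2 ((Submodule.mem_bot S).2 (hann r hr))
    · refine IsLocalRing.le_maximalIdeal fun htop => hb ?_
      have := (Ideal.eq_top_iff_one _).1 htop
      rw [Submodule.mem_colon_singleton, Submodule.mem_bot, one_smul] at this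
      exact this

variable {X : Scheme.{u}} (I : X.IdealSheafData) (z : I.subscheme) {U : X.affineOpens}
  (hz : I.subschemeι z ∈ (U : X.Opens))

/-- The ideal of the subscheme in the local ring. -/
noncomputable def stalkIdeal : Ideal (X.presheaf.stalk (I.subschemeι z)) :=
  (I.ideal U).map (X.presheaf.germ U.1 (I.subschemeι z) hz).hom

theorem ker_stalkMap : RingHom.ker (I.subschemeι.stalkMap z).hom = stalkIdeal I z hz := by
  refine le_antisymm (KrullThick.ker_stalkMap_le I z hz) ?_
  rw [stalkIdeal, Ideal.map_le_iff_le_comap]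
  intro a ha
  show (I.subschemeι.stalkMap z).hom ((X.presheaf.germ U.1 (I.subschemeι z) hz).hom a) = 0
  rw [Scheme.Hom.germ_stalkMap_apply]
  rw [← I.ker_subschemeι_app U, RingHom.mem_ker] at ha
  rw [ha, map_zero]

theorem stalkMap_surjective : Function.Surjective (I.subschemeι.stalkMap z) :=
  I.subschemeι.stalkMap_surjective z

theorem length_stalk (R : Type u) [CommRing R] (e : R ≃+* X.presheaf.stalk (I.subschemeι z)) :
    Module.length (I.subscheme.presheaf.stalk z) (I.subscheme.presheaf.stalk z) =
      Module.length R (R ⧸ (stalkIdeal I z hz).comap e.toRingHom) := by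
  let π : R →+* I.subscheme.presheaf.stalk z := (I.subschemeι.stalkMap z).hom.comp e.toRingHom
  have hπ : Function.Surjective π := (stalkMap_surjective I z).comp e.surjective
  have hker : RingHom.ker π = (stalkIdeal I z hz).comap e.toRingHom := by
    rw [← ker_stalkMap I z hz]; rfl
  letI := π.toAlgebra
  rw [← Module.length_eq_of_surjective (S := R) (R := I.subscheme.presheaf.stalk z) hπ, ← hker]
  exact ((Ideal.quotientKerAlgEquivOfSurjective (f := Algebra.ofId R (I.subscheme.presheaf.stalk z)) hπ).toLinearEquiv).length_eq.symm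

theorem isAssociated_stalk_iff [IsLocallyNoetherian X] :
    IsAssociatedPrime (maximalIdeal (I.subscheme.presheaf.stalk z)) (I.subscheme.presheaf.stalk z) ↔
      ∃ a, a ∉ stalkIdeal I z hz ∧ ∀ r ∈ maximalIdeal (X.presheaf.stalk (I.subschemeι z)),
        r * a ∈ stalkIdeal I z hz := by
  haveI : IsNoetherianRing (I.subscheme.presheaf.stalk z) :=
    isNoetherianRing_of_surjective _ _ (I.subschemeι.stalkMap z).hom (stalkMap_surjective I z)
  rw [isAssociatedPrime_max_iff, ← ker_stalkMap I z hz]
  constructor
  · rintro ⟨b, hb, hann⟩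
    obtain ⟨a, rfl⟩ := stalkMap_surjective I z b
    refine ⟨a, hb, fun r hr => ?_⟩
    rw [RingHom.mem_ker, map_mul]
    exact hann _ (map_nonunit (I.subschemeι.stalkMap z).hom r hr)
  · rintro ⟨a, ha, hann⟩
    refine ⟨(I.subschemeι.stalkMap z).hom a, ha, fun r hr => ?_⟩
    obtain ⟨r, rfl⟩ := stalkMap_surjective I z r
    have hr' : r ∈ maximalIdeal (X.presheaf.stalk (I.subschemeι z)) := fun hu => hr (hu.map _)
    have := hann r hr'
    rwa [RingHom.mem_ker, map_mul] at this

end Groth.Agent.CycSub
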