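import Groth.Agent.CycSub.Local
import Groth.Agent.UfdExtend.Local
import Mathlib

/-!
The closed subscheme without embedded components attached to an effective cycle of divisorial points.
-/

set_option autoImplicit false
set_option backward.isDefEq.respectTransparency false

universe u

open CategoryTheory AlgebraicGeometry IsLocalRing
open Groth.Agent.UfdExtend (mem_basicOpen_iff exists_point)

noncomputable section

namespace Groth.Agent.CycSub

variable {X : Scheme.{u}}

theorem specializes_iff_primeIdealOf_le {U : X.Opens} (hU : IsAffineOpen U) {a b : X} (ha : a ∈ U) (hb : b ∈ U) :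
    a ⤳ b ↔ (hU.primeIdealOf ⟨a, ha⟩).asIdeal ≤ (hU.primeIdealOf ⟨b, hb⟩).asIdeal := by
  haveI := hU.isOpenImmersion_fromSpec
  constructor
  · intro h
    exact (PrimeSpectrum.le_iff_specializes _ _).2
      (hU.fromSpec.isEmbedding.isInducing.specializes_iff.1 (by rwa [hU.fromSpec_primeIdealOf, hU.fromSpec_primeIdealOf]))
  · intro h
    have := Specializes.map ((PrimeSpectrum.le_iff_specializes _ _).1 h) hU.fromSpec.continuous
    rwa [hU.fromSpec_primeIdealOf, hU.fromSpec_primeIdealOf] at this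

theorem germ_mem_maximalIdeal_iff {U : X.Opens} (hU : IsAffineOpen U) {z : X} (hz : z ∈ U) (a : Γ(X, U)) :
    X.presheaf.germ U z hz a ∈ maximalIdeal (X.presheaf.stalk z) ↔ a ∈ (hU.primeIdealOf ⟨z, hz⟩).asIdeal := by
  rw [IsLocalRing.mem_maximalIdeal, mem_nonunits_iff, ← X.mem_basicOpen a z hz, mem_basicOpen_iff hU hz, not_not]

variable (S : Finset X) (n : X → ℕ)

/-- The sections vanishing to the given order at one point. -/
def Q (z : X) (U : X.affineOpens) : Ideal Γ(X, U.1) :=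
  ⨅ h : z ∈ U.1, (maximalIdeal (X.presheaf.stalk z) ^ n z).comap (X.presheaf.germ U.1 z h).hom

theorem mem_Q {z : X} {U : X.affineOpens} {a : Γ(X, U.1)} :
    a ∈ Q n z U ↔ ∀ h : z ∈ U.1, X.presheaf.germ U.1 z h a ∈ maximalIdeal (X.presheaf.stalk z) ^ n z := by
  simp [Q, Submodule.mem_iInf]

theorem mul_mem_Q {z : X} {U : X.affineOpens} {a b : Γ(X, U.1)}
    (hb : ∀ h : z ∈ U.1, b ∉ (U.2.primeIdealOf ⟨z, h⟩).asIdeal) : b * a ∈ Q n z U ↔ a ∈ Q n z U := by
  simp only [mem_Q, map_mul]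
  refine forall_congr' fun h => Ideal.unit_mul_mem_iff_mem _ ?_
  by_contra hu
  exact hb h ((germ_mem_maximalIdeal_iff U.2 h b).1 ((IsLocalRing.mem_maximalIdeal _).2 hu))

/-- The sections vanishing to the given orders at all the points. -/
def J (U : X.affineOpens) : Ideal Γ(X, U.1) := S.inf fun z => Q n z U

theorem map_Q (z : X) (U : X.affineOpens) (f : Γ(X, U.1)) :
    (Q n z U).map (X.presheaf.map (homOfLE (X.basicOpen_le f)).op).hom = Q n z (X.affineBasicOpen f) := by
  haveI := U.2.isLocalization_basicOpen f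
  by_cases hD : z ∈ X.basicOpen f
  · have hcomap : Q n z U = (Q n z (X.affineBasicOpen f)).comap (algebraMap Γ(X, U.1) Γ(X, X.basicOpen f)) := by
      ext a
      rw [Ideal.mem_comap, mem_Q, mem_Q]
      have key := TopCat.Presheaf.germ_res_apply X.presheaf (homOfLE (X.basicOpen_le f)) z hD a
      exact ⟨fun h _ => key.symm ▸ h (X.basicOpen_le f hD), fun h _ => key ▸ h hD⟩
    rw [hcomap]
    exact IsLocalization.map_under (Submonoid.powers f) Γ(X, X.basicOpen f) _
  · rw [show Q n z (X.affineBasicOpen f) = ⊤ from eq_top_iff.2 fun a _ => (mem_Q n).2 fun h => absurd h hD]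
    have hmem : f ^ n z ∈ Q n z U := (mem_Q n).2 fun h => by
      rw [map_pow]
      exact Ideal.pow_mem_pow ((germ_mem_maximalIdeal_iff U.2 h f).2 (not_not.1 fun hf => hD ((mem_basicOpen_iff U.2 h f).2 hf))) _
    exact Ideal.eq_top_of_isUnit_mem _ (Ideal.mem_map_of_mem _ hmem)
      (by rw [map_pow]; exact (IsLocalization.Away.algebraMap_isUnit (S := Γ(X, X.basicOpen f)) f).pow _)

theorem map_J (U : X.affineOpens) (f : Γ(X, U.1)) :
    (J S n U).map (X.presheaf.map (homOfLE (X.basicOpen_le f)).op).hom = J S n (X.affineBasicOpen f) := by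
  classical
  haveI := U.2.isLocalization_basicOpen f
  unfold J
  induction S using Finset.induction_on with
  | empty => simpa using Ideal.map_top _
  | insert z T hz ih =>
    rw [Finset.inf_insert, Finset.inf_insert, ← ih, ← map_Q]
    exact IsLocalization.map_inf (Submonoid.powers f) Γ(X, X.basicOpen f) _ _

/-- The ideal sheaf of sections vanishing to the given orders. -/
def cycIdeal : X.IdealSheafData where
  ideal := J S n
  map_ideal_basicOpen := map_J S n

theorem cycIdeal_ideal (U : X.affineOpens) : (cycIdeal S n).ideal U = J S n U := rfl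

theorem mem_J {U : X.affineOpens} {a : Γ(X, U.1)} : a ∈ J S n U ↔ ∀ z ∈ S, a ∈ Q n z U := by
  simp [J, Submodule.mem_finsetInf]

variable {S n} (hn : ∀ z ∈ S, 0 < n z)

include hn in
theorem le_prime_iff {U : X.affineOpens} {p : Ideal Γ(X, U.1)} [p.IsPrime] :
    J S n U ≤ p ↔ ∃ z ∈ S, ∃ h : z ∈ U.1, (U.2.primeIdealOf ⟨z, h⟩).asIdeal ≤ p := by
  constructor
  · intro h
    obtain ⟨z, hz, hle⟩ := (Ideal.IsPrime.inf_le' ‹p.IsPrime›).1 h
    by_cases hzU : z ∈ U.1
    · refine ⟨z, hz, hzU, fun a ha => ‹p.IsPrime›.mem_of_pow_mem (n z) (hle ((mem_Q n).2 fun _ => ?_))⟩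
      rw [map_pow]
      exact Ideal.pow_mem_pow ((germ_mem_maximalIdeal_iff U.2 hzU a).2 ha) _
    · exact absurd ((Ideal.eq_top_iff_one p).2 (hle ((mem_Q n).2 fun h => absurd h hzU))) (Ideal.IsPrime.ne_top ‹_›)
  · rintro ⟨z, hz, hzU, hle⟩ a ha
    refine hle ((germ_mem_maximalIdeal_iff U.2 hzU a).1 ?_)
    exact Ideal.pow_le_self (hn z hz).ne' ((mem_Q n).1 ((mem_J S n).1 ha z hz) hzU)

include hn in
theorem mem_support {x : X} : x ∈ (cycIdeal S n).support ↔ ∃ z ∈ S, z ⤳ x := by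
  obtain ⟨U', hU', hxU, -⟩ := exists_isAffineOpen_mem_and_subset (x := x) (U := (⊤ : X.Opens)) trivial
  let U : X.affineOpens := ⟨U', hU'⟩
  rw [Scheme.IdealSheafData.mem_support_iff_of_mem (U := U) hxU, Scheme.mem_zeroLocus_iff]
  have : (∀ f ∈ ((cycIdeal S n).ideal U : Set Γ(X, U.1)), x ∉ X.basicOpen f) ↔
      J S n U ≤ (U.2.primeIdealOf ⟨x, hxU⟩).asIdeal :=
    forall₂_congr fun f _ => (mem_basicOpen_iff U.2 hxU f).not.trans not_not
  rw [this, le_prime_iff hn]
  exact exists_congr fun z => and_congr_right fun _ =>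
    ⟨fun ⟨hzU, hle⟩ => (specializes_iff_primeIdealOf_le U.2 hzU hxU).2 hle,
      fun h => ⟨h.mem_open U'.2 hxU, (specializes_iff_primeIdealOf_le U.2 _ hxU).1 h⟩⟩

variable (hdim : ∀ z ∈ S, ringKrullDim (X.presheaf.stalk z) = 1)

include hdim in
theorem eq_of_specializes {z z' : X} (hz : z ∈ S) (hz' : z' ∈ S) (h : z ⤳ z') : z = z' := by
  obtain ⟨V, hV, hz'V, -⟩ := exists_isAffineOpen_mem_and_subset (x := z') (U := (⊤ : X.Opens)) trivial
  have hzV := h.mem_open V.2 hz'V
  have hle := (specializes_iff_primeIdealOf_le hV hzV hz'V).1 h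
  have h1 := hdim z hz
  have h2 := hdim z' hz'
  rw [UfdExtend.ringKrullDim_stalk hV hzV] at h1
  rw [UfdExtend.ringKrullDim_stalk hV hz'V] at h2
  have h1' : (hV.primeIdealOf ⟨z, hzV⟩).asIdeal.height = 1 := by exact_mod_cast h1
  have h2' : (hV.primeIdealOf ⟨z', hz'V⟩).asIdeal.height = 1 := by exact_mod_cast h2
  rcases hle.eq_or_lt with heq | hlt
  · have := congrArg hV.fromSpec (PrimeSpectrum.ext (x := hV.primeIdealOf ⟨z, hzV⟩) (y := hV.primeIdealOf ⟨z', hz'V⟩) heq)
    rwa [hV.fromSpec_primeIdealOf, hV.fromSpec_primeIdealOf] at this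
  · haveI : (hV.primeIdealOf ⟨z, hzV⟩).asIdeal.FiniteHeight := ⟨Or.inr (by rw [h1']; simp)⟩
    exact absurd (Ideal.height_strict_mono_of_isPrime hlt) (by rw [h1', h2']; exact lt_irrefl _)

variable (I : X.IdealSheafData)

theorem mem_stalkIdeal_iff (z : I.subscheme) {U : X.affineOpens} (hz : I.subschemeι z ∈ (U : X.Opens))
    (a : Γ(X, U.1)) : X.presheaf.germ U.1 (I.subschemeι z) hz a ∈ stalkIdeal I z hz ↔
      ∃ s ∉ (U.2.primeIdealOf ⟨I.subschemeι z, hz⟩).asIdeal, s * a ∈ I.ideal U := by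
  letI := X.presheaf.algebra_section_stalk (⟨I.subschemeι z, hz⟩ : U.1)
  haveI := U.2.isLocalization_stalk ⟨I.subschemeι z, hz⟩
  exact (IsLocalization.algebraMap_mem_map_algebraMap_iff (U.2.primeIdealOf ⟨I.subschemeι z, hz⟩).asIdeal.primeCompl
    (X.presheaf.stalk (I.subschemeι z)) (I.ideal U) a).trans
    ⟨fun ⟨s, hs, h⟩ => ⟨s, hs, h⟩, fun ⟨s, hs, h⟩ => ⟨s, hs, h⟩⟩

/-- Points of `I.subscheme` without proper generalisations. -/
def IsMax (z : I.subscheme) : Prop := ∀ z' : I.subscheme, z' ⤳ z → z' = z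

theorem isMax_iff (z : I.subscheme) :
    IsMax I z ↔ ∀ x ∈ I.support, x ⤳ I.subschemeι z → x = I.subschemeι z := by
  have hemb := I.subschemeι.isEmbedding
  constructor
  · intro h x hx hxz
    obtain ⟨z', rfl⟩ : x ∈ Set.range I.subschemeι := by rw [I.range_subschemeι]; exact hx
    rw [h z' (hemb.isInducing.specializes_iff.1 hxz)]
  · intro h z' hz'
    exact hemb.injective (h _ (I.range_subschemeι.subset ⟨z', rfl⟩) (hz'.map I.subschemeι.continuous))

theorem mem_support_of (z : I.subscheme) : I.subschemeι z ∈ I.support := I.range_subschemeι.subset ⟨z, rfl⟩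

include hn hdim in
theorem isMax_cycIdeal_iff (z : (cycIdeal S n).subscheme) :
    IsMax _ z ↔ (cycIdeal S n).subschemeι z ∈ S := by
  rw [isMax_iff]
  constructor
  · intro h
    obtain ⟨w, hw, hwz⟩ := (mem_support hn).1 (mem_support_of _ z)
    exact h w ((mem_support hn).2 ⟨w, hw, specializes_rfl⟩) hwz ▸ hw
  · intro hz x hx hxz
    obtain ⟨w, hw, hwx⟩ := (mem_support hn).1 hx
    have := eq_of_specializes hdim hw hz (hwx.trans hxz)
    exact (hxz.antisymm (this ▸ hwx)).eq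

include hn hdim in
theorem stalkIdeal_cycIdeal (z : (cycIdeal S n).subscheme) {U : X.affineOpens}
    (hz : (cycIdeal S n).subschemeι z ∈ (U : X.Opens)) (hS : (cycIdeal S n).subschemeι z ∈ S) :
    stalkIdeal (cycIdeal S n) z hz =
      maximalIdeal (X.presheaf.stalk ((cycIdeal S n).subschemeι z)) ^ n ((cycIdeal S n).subschemeι z) := by
  classical
  let x := (cycIdeal S n).subschemeι z
  letI := X.presheaf.algebra_section_stalk (⟨x, hz⟩ : U.1)
  haveI := U.2.isLocalization_stalk ⟨x, hz⟩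
  let p := (U.2.primeIdealOf ⟨x, hz⟩).asIdeal
  refine le_antisymm (Ideal.map_le_iff_le_comap.2 fun a ha => (mem_Q n).1 ((mem_J S n).1 ha x hS) hz) fun r hr => ?_
  obtain ⟨a, c, rfl⟩ := IsLocalization.exists_mk'_eq p.primeCompl r
  rw [IsLocalization.mk'_mem_iff] at hr ⊢
  refine (mem_stalkIdeal_iff _ z hz a).2 ?_
  have hex : ∀ w ∈ S, ∃ t ∉ p, t * a ∈ Q n w U := fun w hw => by
    by_cases hwU : w ∈ U.1
    · by_cases hle : (U.2.primeIdealOf ⟨w, hwU⟩).asIdeal ≤ p
      · have hwx := eq_of_specializes hdim hw hS ((specializes_iff_primeIdealOf_le U.2 hwU hz).2 hle)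
        subst hwx
        exact ⟨1, fun h => (U.2.primeIdealOf ⟨_, hz⟩).isPrime.ne_top ((Ideal.eq_top_iff_one _).2 h),
          (mem_Q n).2 fun _ => by rw [one_mul]; exact hr⟩
      · obtain ⟨s, hs, hsp⟩ := SetLike.not_le_iff_exists.1 hle
        exact ⟨s ^ n w, fun h => hsp ((U.2.primeIdealOf ⟨x, hz⟩).isPrime.mem_of_pow_mem _ h),
          (mem_Q n).2 fun _ => by
            rw [map_mul, map_pow]
            exact Ideal.mul_mem_right _ _ (Ideal.pow_mem_pow ((germ_mem_maximalIdeal_iff U.2 hwU s).2 hs) _)⟩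
    · exact ⟨1, fun h => (U.2.primeIdealOf ⟨x, hz⟩).isPrime.ne_top ((Ideal.eq_top_iff_one _).2 h),
        (mem_Q n).2 fun h => absurd h hwU⟩
  choose t ht htQ using hex
  refine ⟨∏ w ∈ S.attach, t w.1 w.2, fun h => ?_, (mem_J S n).2 fun w hw => ?_⟩
  · obtain ⟨w, -, hwp⟩ := (Ideal.IsPrime.prod_mem_iff (p := p)).1 h
    exact ht w.1 w.2 hwp
  · obtain ⟨d, hd⟩ := Finset.dvd_prod_of_mem (fun w : S => t w.1 w.2) (Finset.mem_attach S ⟨w, hw⟩)
    rw [hd, mul_comm (t _ _) d, mul_assoc]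
    exact Ideal.mul_mem_left _ _ (htQ w hw)

variable [IsLocallyNoetherian X]

include hn hdim in
theorem isMax_of_associated (z : (cycIdeal S n).subscheme)
    (h : IsAssociatedPrime (maximalIdeal ((cycIdeal S n).subscheme.presheaf.stalk z))
      ((cycIdeal S n).subscheme.presheaf.stalk z)) : IsMax _ z := by
  classical
  rw [isMax_cycIdeal_iff hn hdim]
  let x := (cycIdeal S n).subschemeι z
  by_contra hxS
  obtain ⟨U', hU', hxU, -⟩ := exists_isAffineOpen_mem_and_subset (x := x) (U := (⊤ : X.Opens)) trivial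
  let U : X.affineOpens := ⟨U', hU'⟩
  letI := X.presheaf.algebra_section_stalk (⟨x, hxU⟩ : U.1)
  haveI := U.2.isLocalization_stalk ⟨x, hxU⟩
  let p := (U.2.primeIdealOf ⟨x, hxU⟩).asIdeal
  obtain ⟨r, hr, hann⟩ := (isAssociated_stalk_iff _ z (U := U) hxU).1 h
  obtain ⟨a, c, rfl⟩ := IsLocalization.exists_mk'_eq p.primeCompl r
  have hex : ∀ w ∈ S, ∃ t ∉ p, t * a ∈ Q n w U := fun w hw => by
    by_cases hwU : w ∈ U.1
    · by_cases hle : (U.2.primeIdealOf ⟨w, hwU⟩).asIdeal ≤ p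
      · have hne : ¬ p ≤ (U.2.primeIdealOf ⟨w, hwU⟩).asIdeal := fun hge => hxS <| by
          have := congrArg U.2.fromSpec (PrimeSpectrum.ext (x := U.2.primeIdealOf ⟨w, hwU⟩)
            (y := U.2.primeIdealOf ⟨x, hxU⟩) (le_antisymm hle hge))
          rw [U.2.fromSpec_primeIdealOf, U.2.fromSpec_primeIdealOf] at this
          have e : w = x := this
          exact (e ▸ hw : x ∈ S)
        obtain ⟨b, hb, hbq⟩ := SetLike.not_le_iff_exists.1 hne
        have h1 := hann _ ((germ_mem_maximalIdeal_iff U.2 hxU b).2 hb)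
        have h1' : algebraMap Γ(X, U.1) (X.presheaf.stalk x) (b * a) ∈ stalkIdeal (cycIdeal S n) z (U := U) hxU := by
          rw [map_mul, ← IsLocalization.mk'_spec (X.presheaf.stalk x) a c, ← mul_assoc]
          exact Ideal.mul_mem_right _ _ h1
        obtain ⟨s, hs, hsmem⟩ := (mem_stalkIdeal_iff _ z (U := U) hxU (b * a)).1 h1'
        refine ⟨1, fun h => (U.2.primeIdealOf ⟨x, hxU⟩).isPrime.ne_top ((Ideal.eq_top_iff_one _).2 h), ?_⟩
        rw [one_mul]
        have h2 := (mem_J S n).1 hsmem w hw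
        rw [← mul_assoc, mul_mem_Q n (b := s * b) fun _ => (U.2.primeIdealOf ⟨w, hwU⟩).isPrime.mul_notMem
          (fun hsw => hs (hle hsw)) hbq] at h2
        exact h2
      · obtain ⟨s, hs, hsp⟩ := SetLike.not_le_iff_exists.1 hle
        exact ⟨s ^ n w, fun h => hsp ((U.2.primeIdealOf ⟨x, hxU⟩).isPrime.mem_of_pow_mem _ h),
          (mem_Q n).2 fun _ => by
            rw [map_mul, map_pow]
            exact Ideal.mul_mem_right _ _ (Ideal.pow_mem_pow ((germ_mem_maximalIdeal_iff U.2 hwU s).2 hs) _)⟩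
    · exact ⟨1, fun h => (U.2.primeIdealOf ⟨x, hxU⟩).isPrime.ne_top ((Ideal.eq_top_iff_one _).2 h),
        (mem_Q n).2 fun h => absurd h hwU⟩
  choose t ht htQ using hex
  refine hr ?_
  rw [IsLocalization.mk'_mem_iff]
  refine (mem_stalkIdeal_iff _ z (U := U) hxU a).2 ⟨∏ w ∈ S.attach, t w.1 w.2, fun h => ?_, (mem_J S n).2 fun w hw => ?_⟩
  · obtain ⟨w, -, hwp⟩ := (Ideal.IsPrime.prod_mem_iff (p := p)).1 h
    exact ht w.1 w.2 hwp
  · obtain ⟨d, hd⟩ := Finset.dvd_prod_of_mem (fun w : S => t w.1 w.2) (Finset.mem_attach S ⟨w, hw⟩)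
    rw [hd, mul_comm (t _ _) d, mul_assoc]
    exact Ideal.mul_mem_left _ _ (htQ w hw)

include hn hdim in
/-- An ideal sheaf with the same multiplicities and no embedded points is the one constructed. -/
theorem eq_cycIdeal
    (hass : ∀ z : I.subscheme, IsAssociatedPrime (maximalIdeal (I.subscheme.presheaf.stalk z))
      (I.subscheme.presheaf.stalk z) → IsMax I z)
    (hmax : ∀ z : I.subscheme, IsMax I z → I.subschemeι z ∈ S)
    (hS : ∀ x ∈ S, ∃ z : I.subscheme, I.subschemeι z = x)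
    (hpow : ∀ (z : I.subscheme) (U : X.affineOpens) (hz : I.subschemeι z ∈ (U : X.Opens)), I.subschemeι z ∈ S →
      stalkIdeal I z hz = maximalIdeal (X.presheaf.stalk (I.subschemeι z)) ^ n (I.subschemeι z)) :
    I = cycIdeal S n := by
  refine Scheme.IdealSheafData.ext (funext fun U => le_antisymm (fun a ha => (mem_J S n).2 fun w hw => ?_) fun a ha => ?_)
  · refine (mem_Q n).2 fun hwU => ?_
    obtain ⟨z, rfl⟩ := hS w hw
    rw [← hpow z U hwU hw]
    exact Ideal.mem_map_of_mem _ ha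
  · by_contra hna
    haveI : IsNoetherianRing Γ(X, U.1) := IsLocallyNoetherian.component_noetherian U
    obtain ⟨P, hP, hle⟩ := exists_le_isAssociatedPrime_of_isNoetherianRing Γ(X, U.1)
      (Ideal.Quotient.mk (I.ideal U) a) (fun h => hna (Ideal.Quotient.eq_zero_iff_mem.1 h))
    obtain ⟨hPp, b, hPb⟩ := isAssociatedPrime_iff.1 hP
    obtain ⟨b, rfl⟩ := Ideal.Quotient.mk_surjective b
    have hcolon : ∀ (d r : Γ(X, U.1)), r ∈ (⊥ : Submodule Γ(X, U.1) (Γ(X, U.1) ⧸ I.ideal U)).colon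
        {Ideal.Quotient.mk (I.ideal U) d} ↔ r * d ∈ I.ideal U := fun d r => by
      rw [Submodule.mem_colon_singleton, Submodule.mem_bot, Algebra.smul_def, Ideal.Quotient.algebraMap_eq, ← map_mul,
        Ideal.Quotient.eq_zero_iff_mem]
    obtain ⟨x, hxU, hxP⟩ := exists_point U.2 ⟨P, hPp⟩
    have hxP' : (U.2.primeIdealOf ⟨x, hxU⟩).asIdeal = P := congrArg PrimeSpectrum.asIdeal hxP
    have hIP : I.ideal U ≤ P := fun r hr => by rw [hPb, hcolon]; exact Ideal.mul_mem_right _ _ hr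
    have hxs : x ∈ I.support := by
      rw [Scheme.IdealSheafData.mem_support_iff_of_mem (U := U) hxU, Scheme.mem_zeroLocus_iff]
      intro f hf hxf
      exact (mem_basicOpen_iff U.2 hxU f).1 hxf (hxP'.symm ▸ hIP hf)
    obtain ⟨z, rfl⟩ : x ∈ Set.range I.subschemeι := by rw [I.range_subschemeι]; exact hxs
    letI := X.presheaf.algebra_section_stalk (⟨I.subschemeι z, hxU⟩ : U.1)
    haveI := U.2.isLocalization_stalk ⟨I.subschemeι z, hxU⟩
    have hzS : I.subschemeι z ∈ S := by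
      refine hmax z (hass z ((isAssociated_stalk_iff I z (U := U) hxU).2
        ⟨X.presheaf.germ U.1 _ hxU b, fun h => ?_, fun r hr => ?_⟩))
      · obtain ⟨s, hs, hsb⟩ := (mem_stalkIdeal_iff I z hxU b).1 h
        exact hs (hxP'.symm ▸ (hPb ▸ (hcolon b s).2 hsb))
      · obtain ⟨e, c, rfl⟩ := IsLocalization.exists_mk'_eq (U.2.primeIdealOf ⟨I.subschemeι z, hxU⟩).asIdeal.primeCompl r
        have he : e * b ∈ I.ideal U := by
          rw [← hcolon, ← hPb, ← hxP']
          exact (germ_mem_maximalIdeal_iff U.2 hxU e).1 ((IsLocalization.mk'_mem_iff).1 hr)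
        rw [show X.presheaf.germ U.1 (I.subschemeι z) hxU b =
          algebraMap Γ(X, U.1) (X.presheaf.stalk (I.subschemeι z)) b from rfl,
          mul_comm, IsLocalization.mul_mk'_eq_mk'_of_mul, IsLocalization.mk'_mem_iff, mul_comm b e]
        exact Ideal.mem_map_of_mem _ he
    have hga : X.presheaf.germ U.1 (I.subschemeι z) hxU a ∈ stalkIdeal I z hxU := by
      rw [hpow z U hxU hzS]
      exact (mem_Q n).1 ((mem_J S n).1 ha _ hzS) hxU
    obtain ⟨s, hs, hsa⟩ := (mem_stalkIdeal_iff I z hxU a).1 hga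
    exact hs (hxP'.symm ▸ hle ((hcolon a s).2 hsa))

end Groth.Agent.CycSub
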